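/-
Equivariant symmetric and antisymmetric bilinear maps `V × V → W`: the dimension of the space of these maps is the
inner product of the character of `W` with the character of the symmetric (alternating) square of `V`.
-/
import Mathlib
import Cfsg.Agent.Characters.Core

set_option autoImplicit false

open scoped ComplexConjugate TensorProduct
open Cfsg Representation Module

namespace Cfsg.Agent.PermChar.TensorSquare

section swap

variable {V : Type*} [AddCommGroup V] [Module ℂ V] [FiniteDimensional ℂ V]

/-- the swap on `V ⊗ V` -/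
noncomputable def swap (V : Type*) [AddCommGroup V] [Module ℂ V] : Module.End ℂ (V ⊗[ℂ] V) :=
  (TensorProduct.comm ℂ V V).toLinearMap

omit [FiniteDimensional ℂ V] in
theorem swap_tmul (v w : V) : swap V (v ⊗ₜ w) = w ⊗ₜ v := rfl

omit [FiniteDimensional ℂ V] in
theorem swap_mul_swap : swap V * swap V = 1 := by
  apply TensorProduct.ext'
  intro v w
  rfl

omit [FiniteDimensional ℂ V] in
theorem swap_comm_map (f : Module.End ℂ V) :
    swap V * TensorProduct.map f f = TensorProduct.map f f * swap V := by
  apply TensorProduct.ext'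
  intro v w
  rfl

theorem trace_map_swap (f : Module.End ℂ V) :
    LinearMap.trace ℂ _ (TensorProduct.map f f * swap V) = LinearMap.trace ℂ _ (f * f) := by
  classical
  let b := Module.finBasis ℂ V
  rw [LinearMap.trace_eq_matrix_trace ℂ (b.tensorProduct b), LinearMap.trace_eq_matrix_trace ℂ b]
  have h0 : LinearMap.toMatrix b b (f * f) = LinearMap.toMatrix b b f * LinearMap.toMatrix b b f :=
    LinearMap.toMatrix_mul _ _ _
  rw [h0]
  simp only [Matrix.trace, Matrix.diag_apply, Fintype.sum_prod_type, Matrix.mul_apply (N := LinearMap.toMatrix b b f)]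
  refine Finset.sum_congr rfl fun i _ => Finset.sum_congr rfl fun j _ => ?_
  rw [LinearMap.toMatrix_apply, LinearMap.toMatrix_apply, LinearMap.toMatrix_apply]
  rw [Module.Basis.tensorProduct_apply]
  show ((b.tensorProduct b).repr (f (b j) ⊗ₜ f (b i))) (i, j) = _
  rw [Module.Basis.tensorProduct_repr_tmul_apply, smul_eq_mul, mul_comm]

end swap

section rep

variable {G : Type*} [Group G] {V : Type*} [AddCommGroup V] [Module ℂ V]

/-- The representation of `G × {±1}` on `V ⊗ V`, the second factor swapping the two tensor factors. -/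
noncomputable def rep2 (ρ : Representation ℂ G V) : Representation ℂ (G × ℤˣ) (V ⊗[ℂ] V) where
  toFun x := TensorProduct.map (ρ x.1) (ρ x.1) * (if x.2 = 1 then 1 else swap V)
  map_one' := by
    simp only [Prod.fst_one, Prod.snd_one, map_one, if_true, mul_one]
    exact TensorProduct.map_one
  map_mul' x y := by
    obtain ⟨g, u⟩ := x
    obtain ⟨h, w⟩ := y
    have hm : TensorProduct.map (ρ (g * h)) (ρ (g * h)) =
        TensorProduct.map (ρ g) (ρ g) * TensorProduct.map (ρ h) (ρ h) := by
      rw [map_mul, TensorProduct.map_mul]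
    simp only [Prod.mk_mul_mk, hm]
    rcases Int.units_eq_one_or u with rfl | rfl <;> rcases Int.units_eq_one_or w with rfl | rfl
    · simp
    · simp [mul_assoc]
    · have h1 : ((-1 : ℤˣ) = 1) = False := by simp
      simp only [mul_one, h1, if_false, if_true]
      rw [mul_assoc, mul_assoc, swap_comm_map]
    · have h1 : ((-1 : ℤˣ) = 1) = False := by simp
      simp only [mul_neg, mul_one, neg_neg, h1, if_false, if_true]
      rw [mul_assoc (TensorProduct.map (ρ g) (ρ g)) (swap V), ← mul_assoc (swap V), swap_comm_map,
        mul_assoc _ (swap V), swap_mul_swap, mul_one]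

/-- The representation of `G × {±1}` on `W` where `-1` acts as `±1`. -/
noncomputable def repSign {W : Type*} [AddCommGroup W] [Module ℂ W] (σ : Representation ℂ G W) (e : ℕ) :
    Representation ℂ (G × ℤˣ) W where
  toFun x := (((x.2 : ℤ) : ℂ) ^ e) • σ x.1
  map_one' := by simp
  map_mul' x y := by
    simp only [Prod.fst_mul, Prod.snd_mul, Units.val_mul, Int.cast_mul, mul_pow, map_mul]
    rw [smul_mul_smul_comm]

theorem character_rep2_one [FiniteDimensional ℂ V] (ρ : Representation ℂ G V) (g : G) :
    (rep2 ρ).character (g, 1) = ρ.character g ^ 2 := by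
  show LinearMap.trace ℂ _ (TensorProduct.map (ρ g) (ρ g) * (if (1 : ℤˣ) = 1 then 1 else swap V)) = _
  rw [if_pos rfl, mul_one, LinearMap.trace_tensorProduct', sq]
  rfl

theorem character_rep2_neg [FiniteDimensional ℂ V] (ρ : Representation ℂ G V) (g : G) :
    (rep2 ρ).character (g, -1) = ρ.character (g * g) := by
  show LinearMap.trace ℂ _ (TensorProduct.map (ρ g) (ρ g) * (if (-1 : ℤˣ) = 1 then 1 else swap V)) = _
  rw [if_neg (by decide), trace_map_swap, ← map_mul]
  rfl

theorem character_repSign {W : Type*} [AddCommGroup W] [Module ℂ W] [FiniteDimensional ℂ W]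
    (σ : Representation ℂ G W) (e : ℕ) (g : G) (u : ℤˣ) :
    (repSign σ e).character (g, u) = (((u : ℤ) : ℂ) ^ e) * σ.character g := by
  show LinearMap.trace ℂ _ ((((u : ℤ) : ℂ) ^ e) • σ g) = _
  rw [map_smul, smul_eq_mul]
  rfl

/-- The dimension of the space of equivariant bilinear maps with a given symmetry. -/
theorem finrank_eq [Fintype G] [FiniteDimensional ℂ V] {W : Type*} [AddCommGroup W] [Module ℂ W]
    [FiniteDimensional ℂ W] (ρ : Representation ℂ G V) (σ : Representation ℂ G W) (e : ℕ) :
    (finrank ℂ (IntertwiningMap (rep2 ρ) (repSign σ e)) : ℂ) * (2 * Nat.card G) =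
      ∑ g : G, σ.character g * conj (ρ.character g ^ 2 + (-1) ^ e * ρ.character (g * g)) := by
  rw [← Characters.Core.classInner_character]
  have hcard : (Nat.card (G × ℤˣ) : ℂ) = 2 * Nat.card G := by
    rw [Nat.card_prod]
    have : Nat.card ℤˣ = 2 := by rw [Nat.card_eq_fintype_card]; rfl
    rw [this]; push_cast; ring
  have hne : (2 * Nat.card G : ℂ) ≠ 0 := by
    rw [← hcard]
    exact_mod_cast Nat.card_pos.ne'
  have hunits : ∀ f : ℤˣ → ℂ, ∑ u : ℤˣ, f u = f 1 + f (-1) := by
    intro f
    have : (Finset.univ : Finset ℤˣ) = {1, -1} := rfl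
    rw [this, Finset.sum_pair (by decide)]
  rw [classInner, hcard, mul_comm, ← mul_assoc, mul_inv_cancel₀ hne, one_mul, Fintype.sum_prod_type]
  refine Finset.sum_congr rfl fun g _ => ?_
  rw [hunits, character_repSign, character_repSign, character_rep2_one, character_rep2_neg]
  simp only [Units.val_one, Int.cast_one, one_pow, one_mul, Units.val_neg, Int.cast_neg, map_add, map_mul, map_pow,
    map_neg, map_one]
  ring

end rep

end Cfsg.Agent.PermChar.TensorSquare
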