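/-
A group acting on a reduced finite-dimensional commutative complex algebra of dimension `n` permutes the `n`
algebra homomorphisms to `ℂ`; the number of fixed points is the trace.
-/
import Mathlib

set_option autoImplicit false

open Module

namespace Cfsg.Agent.PermChar.AlgPerm

variable {A : Type*} [CommRing A] [Algebra ℂ A] [FiniteDimensional ℂ A]

/-- In a reduced finite-dimensional algebra the algebra homomorphisms to `ℂ` separate points. -/
theorem eq_zero_of_forall [IsReduced A] (a : A) (h : ∀ φ : A →ₐ[ℂ] ℂ, φ a = 0) : a = 0 := by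
  have : IsArtinianRing A := isArtinian_of_tower ℂ inferInstance
  have h1 : a ∈ Ideal.jacobson (⊥ : Ideal A) := by
    rw [Ideal.jacobson, Ideal.mem_sInf]
    rintro M ⟨_, hM⟩
    have : Field (A ⧸ M) := Ideal.Quotient.field M
    have : FiniteDimensional ℂ (A ⧸ M) := inferInstance
    have hbij : Function.Bijective (algebraMap ℂ (A ⧸ M)) :=
      IsAlgClosed.algebraMap_bijective_of_isIntegral
    let e : ℂ ≃ₐ[ℂ] (A ⧸ M) := AlgEquiv.ofBijective (Algebra.ofId ℂ (A ⧸ M)) hbij
    have h2 := h ((e.symm : (A ⧸ M) →ₐ[ℂ] ℂ).comp (Ideal.Quotient.mkₐ ℂ M))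
    have h3 : e.symm (Ideal.Quotient.mk M a) = 0 := h2
    have h4 : Ideal.Quotient.mk M a = 0 := by
      have := congrArg e h3
      rwa [AlgEquiv.apply_symm_apply, map_zero] at this
    exact Ideal.Quotient.eq_zero_iff_mem.1 h4
  rw [IsArtinianRing.jacobson_eq_radical] at h1
  have h5 : IsNilpotent a := by
    rwa [← mem_nilradical]
  exact h5.eq_zero

theorem card_algHom [IsReduced A] : Nat.card (A →ₐ[ℂ] ℂ) = finrank ℂ A := by
  apply le_antisymm (card_algHom_le_finrank ℂ A ℂ)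
  have := Fintype.ofFinite (A →ₐ[ℂ] ℂ)
  let ev : A →ₗ[ℂ] ((A →ₐ[ℂ] ℂ) → ℂ) := LinearMap.pi fun φ => φ.toLinearMap
  have hinj : Function.Injective ev := by
    rw [injective_iff_map_eq_zero]
    intro a ha
    exact eq_zero_of_forall a fun φ => congrFun ha φ
  have := LinearMap.finrank_le_finrank_of_injective hinj
  rwa [finrank_fintype_fun_eq_card, ← Nat.card_eq_fintype_card] at this

/-- evaluation -/
noncomputable def ev [IsReduced A] : A ≃ₗ[ℂ] ((A →ₐ[ℂ] ℂ) → ℂ) := by
  have := Fintype.ofFinite (A →ₐ[ℂ] ℂ)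
  exact LinearEquiv.ofInjectiveOfFinrankEq (LinearMap.pi fun φ : A →ₐ[ℂ] ℂ => φ.toLinearMap)
    (by
      rw [injective_iff_map_eq_zero]
      intro a ha
      exact eq_zero_of_forall a fun φ => congrFun ha φ)
    (by rw [finrank_fintype_fun_eq_card, ← Nat.card_eq_fintype_card, card_algHom])

theorem ev_apply [IsReduced A] (a : A) (φ : A →ₐ[ℂ] ℂ) : ev a φ = φ a := rfl

variable {G : Type*} [Group G]

/-- the action of `G` on the algebra homomorphisms -/
noncomputable def act (α : G →* (A ≃ₐ[ℂ] A)) : G →* Equiv.Perm (A →ₐ[ℂ] ℂ) where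
  toFun g :=
    { toFun := fun φ => φ.comp (α g⁻¹ : A →ₐ[ℂ] A)
      invFun := fun φ => φ.comp (α g : A →ₐ[ℂ] A)
      left_inv := fun φ => by
        ext a
        show φ (α g⁻¹ (α g a)) = φ a
        rw [← AlgEquiv.mul_apply, ← map_mul, inv_mul_cancel, map_one, AlgEquiv.one_apply]
      right_inv := fun φ => by
        ext a
        show φ (α g (α g⁻¹ a)) = φ a
        rw [← AlgEquiv.mul_apply, ← map_mul, mul_inv_cancel, map_one, AlgEquiv.one_apply] }
  map_one' := by
    ext φ a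
    show φ (α 1⁻¹ a) = φ a
    rw [inv_one, map_one, AlgEquiv.one_apply]
  map_mul' g h := by
    ext φ a
    show φ (α (g * h)⁻¹ a) = φ (α h⁻¹ (α g⁻¹ a))
    rw [mul_inv_rev, map_mul, AlgEquiv.mul_apply]

theorem act_apply (α : G →* (A ≃ₐ[ℂ] A)) (g : G) (φ : A →ₐ[ℂ] ℂ) (a : A) :
    act α g φ a = φ (α g⁻¹ a) := rfl

theorem ev_act [IsReduced A] (α : G →* (A ≃ₐ[ℂ] A)) (g : G) (a : A) (φ : A →ₐ[ℂ] ℂ) :
    ev (α g a) φ = ev a (act α g⁻¹ φ) := by
  rw [ev_apply, ev_apply, act_apply, inv_inv]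

theorem trace_eq_card_fixed [IsReduced A] (α : G →* (A ≃ₐ[ℂ] A)) (g : G) :
    LinearMap.trace ℂ A (α g).toLinearMap = (Nat.card {φ // act α g φ = φ} : ℂ) := by
  classical
  have := Fintype.ofFinite (A →ₐ[ℂ] ℂ)
  rw [← LinearMap.trace_conj' _ (ev (A := A))]
  have h1 : (ev (A := A)).conj (α g).toLinearMap =
      Matrix.toLin' ((act α g⁻¹).permMatrix ℂ) := by
    apply LinearMap.ext
    intro f
    rw [Matrix.toLin'_apply, Matrix.permMatrix_mulVec]
    funext φ
    rw [LinearEquiv.conj_apply_apply]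
    show ev (α g (ev.symm f)) φ = f (act α g⁻¹ φ)
    rw [ev_act, LinearEquiv.apply_symm_apply]
  rw [h1, Matrix.trace_toLin'_eq, Matrix.trace_permutation]
  congr 1
  rw [← Nat.card_coe_set_eq]
  apply Nat.card_congr
  refine Equiv.subtypeEquivRight fun φ => ?_
  rw [Function.mem_fixedPoints, Function.IsFixedPt, map_inv, Equiv.Perm.inv_eq_iff_eq]
  exact eq_comm

/-- A group acting on a reduced commutative algebra of dimension `n` has a permutation representation of degree
`n` in which the number of fixed points is the trace. -/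
theorem exists_perm [IsReduced A] (α : G →* (A ≃ₐ[ℂ] A)) (n : ℕ) (hn : finrank ℂ A = n) :
    ∃ π : G →* Equiv.Perm (Fin n), ∀ g, (Nat.card {i // π g i = i} : ℂ) =
      LinearMap.trace ℂ A (α g).toLinearMap := by
  let e : (A →ₐ[ℂ] ℂ) ≃ Fin n := Finite.equivFinOfCardEq (by rw [card_algHom, hn])
  refine ⟨(e.permCongrHom : Equiv.Perm (A →ₐ[ℂ] ℂ) →* Equiv.Perm (Fin n)).comp (act α), fun g => ?_⟩
  rw [trace_eq_card_fixed]
  congr 1
  apply Nat.card_congr
  refine (e.subtypeEquiv fun φ => ?_).symm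
  show act α g φ = φ ↔ e (act α g (e.symm (e φ))) = e φ
  rw [Equiv.symm_apply_apply, e.apply_eq_iff_eq]

end Cfsg.Agent.PermChar.AlgPerm
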