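/-
The algebra `ℂ ⊕ V` built from an invariant symmetric form and an equivariant commutative product on an
irreducible module `V`.
-/
import Cfsg.Agent.PermChar.AlgPerm
import Mathlib

set_option autoImplicit false

open Module

namespace Cfsg.Agent.PermChar.TrickAlg

/-- A symmetric form and a commutative product on `V` whose associator is a multiple of the standard one. -/
structure Data (V : Type*) [AddCommGroup V] [Module ℂ V] where
  /-- the form -/
  B : V →ₗ[ℂ] V →ₗ[ℂ] ℂ
  /-- the product -/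
  μ : V →ₗ[ℂ] V →ₗ[ℂ] V
  /-- the factor -/
  k : ℂ
  symmB : ∀ v w, B v w = B w v
  symmμ : ∀ v w, μ v w = μ w v
  inv : ∀ v w u, B (μ v w) u = B v (μ w u)
  assoc : ∀ v w u, μ (μ v w) u - μ v (μ w u) = k • (B v w • u - B w u • v)

variable {V : Type*} [AddCommGroup V] [Module ℂ V]

/-- The underlying space `ℂ ⊕ V`. -/
def Carrier (_ : Data V) : Type _ := ℂ × V

variable (D : Data V)

noncomputable instance instAddCommGroupCarrier : AddCommGroup (Carrier D) :=
  inferInstanceAs (AddCommGroup (ℂ × V))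

noncomputable instance instModuleCarrier : Module ℂ (Carrier D) :=
  inferInstanceAs (Module ℂ (ℂ × V))

instance instFiniteCarrier [FiniteDimensional ℂ V] : FiniteDimensional ℂ (Carrier D) :=
  inferInstanceAs (FiniteDimensional ℂ (ℂ × V))

/-- constructor -/
def mk (a : ℂ) (v : V) : Carrier D := (a, v)

theorem ext' {x y : Carrier D} (h1 : x.1 = y.1) (h2 : x.2 = y.2) : x = y := Prod.ext h1 h2

/-- the multiplication -/
noncomputable def mul (x y : Carrier D) : Carrier D :=
  (x.1 * y.1 - D.k * D.B x.2 y.2, x.1 • y.2 + y.1 • x.2 + D.μ x.2 y.2)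

noncomputable instance instCommRingCarrier : CommRing (Carrier D) where
  __ := instAddCommGroupCarrier D
  mul := mul D
  one := ((1 : ℂ), (0 : V))
  left_distrib x y z := by
    apply ext'
    · show x.1 * (y.1 + z.1) - D.k * D.B x.2 (y.2 + z.2) =
        (x.1 * y.1 - D.k * D.B x.2 y.2) + (x.1 * z.1 - D.k * D.B x.2 z.2)
      rw [map_add]; ring
    · show x.1 • (y.2 + z.2) + (y.1 + z.1) • x.2 + D.μ x.2 (y.2 + z.2) =
        (x.1 • y.2 + y.1 • x.2 + D.μ x.2 y.2) + (x.1 • z.2 + z.1 • x.2 + D.μ x.2 z.2)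
      rw [map_add]; module
  right_distrib x y z := by
    apply ext'
    · show (x.1 + y.1) * z.1 - D.k * D.B (x.2 + y.2) z.2 =
        (x.1 * z.1 - D.k * D.B x.2 z.2) + (y.1 * z.1 - D.k * D.B y.2 z.2)
      rw [map_add, LinearMap.add_apply]; ring
    · show (x.1 + y.1) • z.2 + z.1 • (x.2 + y.2) + D.μ (x.2 + y.2) z.2 =
        (x.1 • z.2 + z.1 • x.2 + D.μ x.2 z.2) + (y.1 • z.2 + z.1 • y.2 + D.μ y.2 z.2)
      rw [map_add, LinearMap.add_apply]; module
  zero_mul x := by
    apply ext'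
    · show (0 : ℂ) * x.1 - D.k * D.B 0 x.2 = 0
      simp
    · show (0 : ℂ) • x.2 + x.1 • (0 : V) + D.μ 0 x.2 = 0
      simp
  mul_zero x := by
    apply ext'
    · show x.1 * (0 : ℂ) - D.k * D.B x.2 0 = 0
      simp
    · show x.1 • (0 : V) + (0 : ℂ) • x.2 + D.μ x.2 0 = 0
      simp
  one_mul x := by
    apply ext'
    · show (1 : ℂ) * x.1 - D.k * D.B 0 x.2 = x.1
      simp
    · show (1 : ℂ) • x.2 + x.1 • (0 : V) + D.μ 0 x.2 = x.2
      simp
  mul_one x := by
    apply ext'
    · show x.1 * (1 : ℂ) - D.k * D.B x.2 0 = x.1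
      simp
    · show x.1 • (0 : V) + (1 : ℂ) • x.2 + D.μ x.2 0 = x.2
      simp
  mul_comm x y := by
    apply ext'
    · show x.1 * y.1 - D.k * D.B x.2 y.2 = y.1 * x.1 - D.k * D.B y.2 x.2
      rw [D.symmB]; ring
    · show x.1 • y.2 + y.1 • x.2 + D.μ x.2 y.2 = y.1 • x.2 + x.1 • y.2 + D.μ y.2 x.2
      rw [D.symmμ]; module
  mul_assoc x y z := by
    apply ext'
    · show (x.1 * y.1 - D.k * D.B x.2 y.2) * z.1 - D.k * D.B (x.1 • y.2 + y.1 • x.2 + D.μ x.2 y.2) z.2 =
        x.1 * (y.1 * z.1 - D.k * D.B y.2 z.2) - D.k * D.B x.2 (y.1 • z.2 + z.1 • y.2 + D.μ y.2 z.2)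
      simp only [map_add, map_smul, LinearMap.add_apply, LinearMap.smul_apply, smul_eq_mul, D.inv]
      ring
    · show (x.1 * y.1 - D.k * D.B x.2 y.2) • z.2 + z.1 • (x.1 • y.2 + y.1 • x.2 + D.μ x.2 y.2) +
        D.μ (x.1 • y.2 + y.1 • x.2 + D.μ x.2 y.2) z.2 =
        x.1 • (y.1 • z.2 + z.1 • y.2 + D.μ y.2 z.2) + (y.1 * z.1 - D.k * D.B y.2 z.2) • x.2 +
        D.μ x.2 (y.1 • z.2 + z.1 • y.2 + D.μ y.2 z.2)
      have h := D.assoc x.2 y.2 z.2
      rw [sub_eq_iff_eq_add] at h
      simp only [map_add, map_smul, LinearMap.add_apply, LinearMap.smul_apply, h]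
      module

theorem mul_fst (x y : Carrier D) : (x * y).1 = x.1 * y.1 - D.k * D.B x.2 y.2 := rfl

theorem mul_snd (x y : Carrier D) : (x * y).2 = x.1 • y.2 + y.1 • x.2 + D.μ x.2 y.2 := rfl

noncomputable instance instAlgebraCarrier : Algebra ℂ (Carrier D) :=
  Algebra.ofModule
    (by
      intro r x y
      apply ext'
      · show (r * x.1) * y.1 - D.k * D.B (r • x.2) y.2 = r * (x.1 * y.1 - D.k * D.B x.2 y.2)
        simp only [map_smul, LinearMap.smul_apply, smul_eq_mul]
        ring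
      · show (r * x.1) • y.2 + y.1 • (r • x.2) + D.μ (r • x.2) y.2 = r • (x.1 • y.2 + y.1 • x.2 + D.μ x.2 y.2)
        simp only [map_smul, LinearMap.smul_apply]
        module)
    (by
      intro r x y
      apply ext'
      · show x.1 * (r * y.1) - D.k * D.B x.2 (r • y.2) = r * (x.1 * y.1 - D.k * D.B x.2 y.2)
        simp only [map_smul, smul_eq_mul]
        ring
      · show x.1 • (r • y.2) + (r * y.1) • x.2 + D.μ x.2 (r • y.2) = r • (x.1 • y.2 + y.1 • x.2 + D.μ x.2 y.2)
        simp only [map_smul]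
        module)

theorem smul_fst (r : ℂ) (x : Carrier D) : (r • x).1 = r * x.1 := rfl

theorem smul_snd (r : ℂ) (x : Carrier D) : (r • x).2 = r • x.2 := rfl

theorem add_fst (x y : Carrier D) : (x + y).1 = x.1 + y.1 := rfl

theorem add_snd (x y : Carrier D) : (x + y).2 = x.2 + y.2 := rfl

theorem zero_fst : (0 : Carrier D).1 = 0 := rfl

theorem zero_snd : (0 : Carrier D).2 = 0 := rfl

variable {G : Type*} [Group G] (ρ : Representation ℂ G V)

/-- The action of `G` by algebra automorphisms. -/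
noncomputable def act (hB : ∀ g v w, D.B (ρ g v) (ρ g w) = D.B v w)
    (hμ : ∀ g v w, D.μ (ρ g v) (ρ g w) = ρ g (D.μ v w)) : G →* (Carrier D ≃ₐ[ℂ] Carrier D) where
  toFun g :=
    AlgEquiv.ofLinearEquiv
      { toFun := fun x => (x.1, ρ g x.2)
        invFun := fun x => (x.1, ρ g⁻¹ x.2)
        map_add' := fun x y => by
          apply ext'
          · rfl
          · show ρ g (x.2 + y.2) = ρ g x.2 + ρ g y.2
            rw [map_add]
        map_smul' := fun r x => by
          apply ext'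
          · rfl
          · show ρ g (r • x.2) = r • ρ g x.2
            rw [map_smul]
        left_inv := fun x => by
          apply ext'
          · rfl
          · show ρ g⁻¹ (ρ g x.2) = x.2
            rw [← Module.End.mul_apply, ← map_mul, inv_mul_cancel, map_one, Module.End.one_apply]
        right_inv := fun x => by
          apply ext'
          · rfl
          · show ρ g (ρ g⁻¹ x.2) = x.2
            rw [← Module.End.mul_apply, ← map_mul, mul_inv_cancel, map_one, Module.End.one_apply] }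
      (by
        apply ext'
        · rfl
        · show ρ g (0 : V) = 0
          rw [map_zero])
      (by
        intro x y
        apply ext'
        · show x.1 * y.1 - D.k * D.B x.2 y.2 = x.1 * y.1 - D.k * D.B (ρ g x.2) (ρ g y.2)
          rw [hB]
        · show ρ g (x.1 • y.2 + y.1 • x.2 + D.μ x.2 y.2) = x.1 • ρ g y.2 + y.1 • ρ g x.2 + D.μ (ρ g x.2) (ρ g y.2)
          rw [hμ, map_add, map_add, map_smul, map_smul])
  map_one' := by
    apply AlgEquiv.ext
    intro x
    apply ext'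
    · rfl
    · show ρ 1 x.2 = x.2
      rw [map_one, Module.End.one_apply]
  map_mul' g h := by
    apply AlgEquiv.ext
    intro x
    apply ext'
    · rfl
    · show ρ (g * h) x.2 = ρ g (ρ h x.2)
      rw [map_mul, Module.End.mul_apply]

theorem act_fst (hB : ∀ g v w, D.B (ρ g v) (ρ g w) = D.B v w)
    (hμ : ∀ g v w, D.μ (ρ g v) (ρ g w) = ρ g (D.μ v w)) (g : G) (x : Carrier D) :
    (act D ρ hB hμ g x).1 = x.1 := rfl

theorem act_snd (hB : ∀ g v w, D.B (ρ g v) (ρ g w) = D.B v w)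
    (hμ : ∀ g v w, D.μ (ρ g v) (ρ g w) = ρ g (D.μ v w)) (g : G) (x : Carrier D) :
    (act D ρ hB hμ g x).2 = ρ g x.2 := rfl

theorem trace_act [FiniteDimensional ℂ V] (hB : ∀ g v w, D.B (ρ g v) (ρ g w) = D.B v w)
    (hμ : ∀ g v w, D.μ (ρ g v) (ρ g w) = ρ g (D.μ v w)) (g : G) :
    LinearMap.trace ℂ (Carrier D) (act D ρ hB hμ g).toLinearMap = 1 + ρ.character g := by
  have h1 : (act D ρ hB hμ g).toLinearMap = (LinearMap.prodMap (LinearMap.id : ℂ →ₗ[ℂ] ℂ) (ρ g) :
      (ℂ × V) →ₗ[ℂ] (ℂ × V)) := rfl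
  have h2 := LinearMap.trace_prodMap' (R := ℂ) (LinearMap.id : ℂ →ₗ[ℂ] ℂ) (ρ g)
  have h3 : LinearMap.trace ℂ ℂ (LinearMap.id : ℂ →ₗ[ℂ] ℂ) = 1 := by
    rw [LinearMap.trace_id]; simp
  rw [h3] at h2
  exact h2

end Cfsg.Agent.PermChar.TrickAlg
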