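/-
The algebra `ℂ ⊕ V` is reduced when `V` is irreducible, non-trivial and the product on `V` is not zero.
-/
import Cfsg.Agent.PermChar.TrickAlg

set_option autoImplicit false

open Module

namespace Cfsg.Agent.PermChar.TrickReduced

open Cfsg.Agent.PermChar.TrickAlg

variable {V : Type*} [AddCommGroup V] [Module ℂ V] (D : Data V) {G : Type*} [Group G]
  (ρ : Representation ℂ G V)

/-- The submodule of `V` of the vectors lying in an ideal. -/
def sub (I : Ideal (Carrier D)) : Submodule ℂ V where
  carrier := {v | (TrickAlg.mk D 0 v) ∈ I}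
  zero_mem' := I.zero_mem
  add_mem' := by
    intro v w hv hw
    have h := I.add_mem hv hw
    have h2 : TrickAlg.mk D 0 v + TrickAlg.mk D 0 w = TrickAlg.mk D 0 (v + w) :=
      ext' D (by show (0 : ℂ) + 0 = 0; simp) rfl
    rw [h2] at h
    exact h
  smul_mem' := by
    intro c v hv
    have h : c • TrickAlg.mk D 0 v ∈ I := by
      rw [Algebra.smul_def]
      exact I.mul_mem_left _ hv
    have h2 : c • TrickAlg.mk D 0 v = TrickAlg.mk D 0 (c • v) :=
      ext' D (by show c * (0 : ℂ) = 0; simp) rfl
    rw [h2] at h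
    exact h

theorem mem_sub (I : Ideal (Carrier D)) (v : V) : v ∈ sub D I ↔ TrickAlg.mk D 0 v ∈ I := Iff.rfl

variable (hB : ∀ g v w, D.B (ρ g v) (ρ g w) = D.B v w)
  (hμ : ∀ g v w, D.μ (ρ g v) (ρ g w) = ρ g (D.μ v w))

theorem isReduced [FiniteDimensional ℂ V] [Fintype G] (hirr : ρ.IsIrreducible)
    (hfix : ∀ v : V, (∀ g, ρ g v = v) → v = 0) (hμ0 : ∃ v w, D.μ v w ≠ 0)
    (hB : ∀ g v w, D.B (ρ g v) (ρ g w) = D.B v w)
    (hμ : ∀ g v w, D.μ (ρ g v) (ρ g w) = ρ g (D.μ v w)) : IsReduced (Carrier D) := by
  have hart : IsArtinianRing (Carrier D) := isArtinian_of_tower ℂ inferInstance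
  have hone : (1 : Carrier D) ≠ 0 := by
    intro h
    have : (1 : Carrier D).1 = (0 : Carrier D).1 := by rw [h]
    exact one_ne_zero (show (1 : ℂ) = 0 from this)
  set N := nilradical (Carrier D) with hN
  have hstab : ∀ g, ∀ x ∈ N, act D ρ hB hμ g x ∈ N := by
    intro g x hx
    rw [hN, mem_nilradical] at hx ⊢
    exact hx.map (act D ρ hB hμ g)
  -- the first component of a nilpotent element is zero
  have hfst : ∀ x ∈ N, x.1 = 0 := by
    intro x hx
    have hy : ∑ g : G, act D ρ hB hμ g x ∈ N := N.sum_mem fun g _ => hstab g x hx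
    have h2 : (∑ g : G, act D ρ hB hμ g x).2 = 0 := by
      have e : (∑ g : G, act D ρ hB hμ g x).2 = ∑ g : G, ρ g x.2 := by
        have := map_sum (LinearMap.snd ℂ ℂ V) (fun g => (act D ρ hB hμ g x : ℂ × V)) Finset.univ
        exact this
      rw [e]
      apply hfix
      intro h
      rw [map_sum]
      refine Fintype.sum_equiv (Equiv.mulLeft h) _ _ fun g => ?_
      rw [Equiv.coe_mulLeft, map_mul, Module.End.mul_apply]
    have h1 : (∑ g : G, act D ρ hB hμ g x).1 = (Fintype.card G : ℂ) * x.1 := by
      have e : (∑ g : G, act D ρ hB hμ g x).1 = ∑ g : G, x.1 := by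
        have := map_sum (LinearMap.fst ℂ ℂ V) (fun g => (act D ρ hB hμ g x : ℂ × V)) Finset.univ
        exact this
      rw [e, Finset.sum_const, Finset.card_univ, nsmul_eq_mul]
    have h3 : (∑ g : G, act D ρ hB hμ g x) = ((Fintype.card G : ℂ) * x.1) • (1 : Carrier D) := by
      apply ext' D
      · rw [h1, smul_fst]
        show _ = _ * (1 : ℂ)
        rw [mul_one]
      · rw [h2, smul_snd]
        show (0 : V) = _ • (0 : V)
        rw [smul_zero]
    rw [h3, hN, mem_nilradical] at hy
    obtain ⟨n, hn⟩ := hy
    rw [smul_pow, one_pow, smul_eq_zero] at hn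
    have h4 := hn.resolve_right hone
    have h5 : (Fintype.card G : ℂ) * x.1 = 0 := by
      by_contra hne
      exact pow_ne_zero n hne h4
    rcases mul_eq_zero.1 h5 with h | h
    · exact absurd h (by exact_mod_cast Fintype.card_ne_zero)
    · exact h
  -- a stable ideal inside the nilradical is `⊥` or contains all `(0, v)`
  have hdich : ∀ I : Ideal (Carrier D), I ≤ N → (∀ g, ∀ x ∈ I, act D ρ hB hμ g x ∈ I) →
      I = ⊥ ∨ ∀ v : V, TrickAlg.mk D 0 v ∈ I := by
    intro I hI hst
    have hsub : ∀ g : G, ∀ v ∈ sub D I, ρ g v ∈ sub D I := by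
      intro g v hv
      exact hst g _ hv
    let S : Subrepresentation ρ := ⟨sub D I, fun g v hv => hsub g v hv⟩
    have hsimple : IsSimpleOrder (Subrepresentation ρ) := hirr
    rcases hsimple.eq_bot_or_eq_top S with h | h
    · left
      have h0 : sub D I = ⊥ := congrArg Subrepresentation.toSubmodule h
      rw [eq_bot_iff]
      intro x hx
      have hx1 := hfst x (hI hx)
      have hx' : x = TrickAlg.mk D 0 x.2 := ext' D hx1 rfl
      rw [hx'] at hx
      have hx2 : x.2 ∈ sub D I := hx
      rw [h0, Submodule.mem_bot] at hx2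
      rw [Submodule.mem_bot]
      exact ext' D hx1 hx2
    · right
      have h0 : sub D I = ⊤ := congrArg Subrepresentation.toSubmodule h
      intro v
      have : v ∈ sub D I := by rw [h0]; trivial
      exact this
  rcases hdich N le_rfl hstab with h | h
  · constructor
    intro x hx
    have hx' : x ∈ N := by rw [hN, mem_nilradical]; exact hx
    rw [h] at hx'
    exact hx'
  · exfalso
    obtain ⟨v, w, hvw⟩ := hμ0
    have hst2 : ∀ g, ∀ x ∈ N * N, act D ρ hB hμ g x ∈ N * N := by
      intro g x hx
      induction hx using Submodule.mul_induction_on' with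
      | mem_mul_mem m hm n hn =>
        rw [map_mul]
        exact Ideal.mul_mem_mul (hstab g m hm) (hstab g n hn)
      | add x hx y hy ihx ihy =>
        rw [map_add]
        exact (N * N).add_mem ihx ihy
    rcases hdich (N * N) Ideal.mul_le_left hst2 with h2 | h2
    · have h3 : TrickAlg.mk D 0 v * TrickAlg.mk D 0 w ∈ N * N := Ideal.mul_mem_mul (h v) (h w)
      rw [h2, Submodule.mem_bot] at h3
      have h4 : (TrickAlg.mk D 0 v * TrickAlg.mk D 0 w).2 = (0 : Carrier D).2 := by rw [h3]
      rw [mul_snd] at h4
      apply hvw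
      have h5 : (0 : ℂ) • w + (0 : ℂ) • v + D.μ v w = 0 := h4
      simpa using h5
    · have h3 : N ≤ N * N := by
        intro x hx
        have hx' : x = TrickAlg.mk D 0 x.2 := ext' D (hfst x hx) rfl
        rw [hx']
        exact h2 _
      have h4 : N * N = N := le_antisymm Ideal.mul_le_left h3
      obtain ⟨m, hm⟩ := IsArtinianRing.isNilpotent_nilradical (R := Carrier D)
      have h5 : ∀ m : ℕ, N ^ (m + 1) = N := by
        intro m
        induction m with
        | zero => rw [zero_add, pow_one]
        | succ m ih => rw [pow_succ, ih, h4]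
      have h6 : N = ⊥ := by
        rcases m with _ | m
        · exfalso
          rw [pow_zero] at hm
          have : (1 : Carrier D) ∈ (1 : Ideal (Carrier D)) := by simp
          rw [hm] at this
          exact hone (by simpa using this)
        · rw [← h5 m]
          exact hm
      have h7 := h w
      rw [h6, Submodule.mem_bot] at h7
      have h8 : w = 0 := congrArg (fun x : ℂ × V => x.2) h7
      apply hvw
      rw [h8, map_zero]

end Cfsg.Agent.PermChar.TrickReduced
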