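/-
A permutation representation of degree `χ 1 + 1` from an irreducible character `χ`.
-/
import Cfsg.Agent.PermChar.TensorSquare
import Cfsg.Agent.PermChar.AlgPerm
import Cfsg.Agent.PermChar.TrickAlg
import Cfsg.Agent.PermChar.TrickReduced

set_option autoImplicit false

open scoped ComplexConjugate TensorProduct
open Cfsg Representation Module

namespace Cfsg.Agent.PermChar.PermFromChar

open Cfsg.Agent.PermChar.TensorSquare

section bilin

variable {G : Type*} [Group G] {V W : Type*} [AddCommGroup V] [Module ℂ V] [AddCommGroup W] [Module ℂ W]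
  {ρ : Representation ℂ G V} {σ : Representation ℂ G W} {e : ℕ}

theorem curry_rep (f : IntertwiningMap (rep2 ρ) (repSign σ e)) (g : G) (v w : V) :
    TensorProduct.curry f.toLinearMap (ρ g v) (ρ g w) = σ g (TensorProduct.curry f.toLinearMap v w) := by
  have h := f.isIntertwining (rep2 ρ) (repSign σ e) (g, 1) (v ⊗ₜ w)
  have h1 : rep2 ρ (g, 1) (v ⊗ₜ w) = ρ g v ⊗ₜ ρ g w := by
    show (TensorProduct.map (ρ g) (ρ g) * (if (1 : ℤˣ) = 1 then 1 else swap V)) (v ⊗ₜ w) = _
    rw [if_pos rfl, mul_one, TensorProduct.map_tmul]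
  have h2 : ∀ x, repSign σ e (g, 1) x = σ g x := by
    intro x
    show ((((1 : ℤˣ) : ℤ) : ℂ) ^ e) • σ g x = _
    simp
  rw [h1, h2] at h
  exact h

theorem curry_swap (f : IntertwiningMap (rep2 ρ) (repSign σ e)) (v w : V) :
    TensorProduct.curry f.toLinearMap w v = (-1 : ℂ) ^ e • TensorProduct.curry f.toLinearMap v w := by
  have h := f.isIntertwining (rep2 ρ) (repSign σ e) (1, -1) (v ⊗ₜ w)
  have h1 : rep2 ρ (1, -1) (v ⊗ₜ w) = w ⊗ₜ v := by
    show (TensorProduct.map (ρ 1) (ρ 1) * (if (-1 : ℤˣ) = 1 then 1 else swap V)) (v ⊗ₜ w) = _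
    rw [if_neg (by decide), map_one, Module.End.mul_apply, swap_tmul, TensorProduct.map_tmul]
    rfl
  have h2 : ∀ x, repSign σ e (1, -1) x = (-1 : ℂ) ^ e • x := by
    intro x
    show ((((-1 : ℤˣ) : ℤ) : ℂ) ^ e) • σ 1 x = _
    rw [map_one]
    simp
  rw [h1, h2] at h
  exact h

theorem curry_ne_zero {f : IntertwiningMap (rep2 ρ) (repSign σ e)} (hf : f ≠ 0) :
    ∃ v w, TensorProduct.curry f.toLinearMap v w ≠ 0 := by
  by_contra h
  push Not at h
  apply hf
  apply IntertwiningMap.ext
  apply TensorProduct.ext'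
  intro v w
  exact h v w

/-- The intertwining map of an equivariant bilinear map with symmetry `(-1) ^ e`. -/
noncomputable def ofBilin (T : V →ₗ[ℂ] V →ₗ[ℂ] W) (hs : ∀ v w, T w v = (-1 : ℂ) ^ e • T v w)
    (hg : ∀ g v w, T (ρ g v) (ρ g w) = σ g (T v w)) : IntertwiningMap (rep2 ρ) (repSign σ e) where
  toLinearMap := TensorProduct.lift T
  isIntertwining' x := by
    obtain ⟨g, u⟩ := x
    apply TensorProduct.ext'
    intro v w
    rw [LinearMap.comp_apply, LinearMap.comp_apply]
    rcases Int.units_eq_one_or u with rfl | rfl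
    · have h1 : rep2 ρ (g, 1) (v ⊗ₜ w) = ρ g v ⊗ₜ ρ g w := by
        show (TensorProduct.map (ρ g) (ρ g) * (if (1 : ℤˣ) = 1 then 1 else swap V)) (v ⊗ₜ w) = _
        rw [if_pos rfl, mul_one, TensorProduct.map_tmul]
      have h2 : ∀ x, repSign σ e (g, 1) x = σ g x := by
        intro x
        show ((((1 : ℤˣ) : ℤ) : ℂ) ^ e) • σ g x = _
        simp
      rw [h1, h2, TensorProduct.lift.tmul, TensorProduct.lift.tmul, hg]
    · have h1 : rep2 ρ (g, -1) (v ⊗ₜ w) = ρ g w ⊗ₜ ρ g v := by
        show (TensorProduct.map (ρ g) (ρ g) * (if (-1 : ℤˣ) = 1 then 1 else swap V)) (v ⊗ₜ w) = _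
        rw [if_neg (by decide), Module.End.mul_apply, swap_tmul, TensorProduct.map_tmul]
      have h2 : ∀ x, repSign σ e (g, -1) x = (-1 : ℂ) ^ e • σ g x := by
        intro x
        show ((((-1 : ℤˣ) : ℤ) : ℂ) ^ e) • σ g x = _
        simp
      rw [h1, h2, TensorProduct.lift.tmul, TensorProduct.lift.tmul, hg, hs, map_smul]

theorem ofBilin_apply (T : V →ₗ[ℂ] V →ₗ[ℂ] W) (hs : ∀ v w, T w v = (-1 : ℂ) ^ e • T v w)
    (hg : ∀ g v w, T (ρ g v) (ρ g w) = σ g (T v w)) (v w : V) :
    (ofBilin T hs hg : IntertwiningMap (rep2 ρ) (repSign σ e)).toLinearMap (v ⊗ₜ w) = T v w :=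
  TensorProduct.lift.tmul _ _

end bilin

section main

variable {G : Type*} [Group G] [Fintype G]

omit [Fintype G] in
theorem eq_zero_of_fixed {V : Type*} [AddCommGroup V] [Module ℂ V] {ρ : Representation ℂ G V}
    (hirr : ρ.IsIrreducible) (hdim : 2 ≤ finrank ℂ V) (v : V) (hv : ∀ g, ρ g v = v) : v = 0 := by
  let S : Subrepresentation ρ := ⟨Submodule.span ℂ {v}, fun g w hw => by
    obtain ⟨c, rfl⟩ := Submodule.mem_span_singleton.1 hw
    rw [map_smul, hv]
    exact Submodule.smul_mem _ _ (Submodule.mem_span_singleton_self v)⟩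
  have hsimple : IsSimpleOrder (Subrepresentation ρ) := hirr
  rcases hsimple.eq_bot_or_eq_top S with h | h
  · have h0 : Submodule.span ℂ {v} = ⊥ := congrArg Subrepresentation.toSubmodule h
    exact Submodule.span_singleton_eq_bot.1 h0
  · exfalso
    have h0 : Submodule.span ℂ {v} = ⊤ := congrArg Subrepresentation.toSubmodule h
    have h1 : finrank ℂ (Submodule.span ℂ {v}) ≤ 1 := by
      have := finrank_span_le_card (R := ℂ) ({v} : Set V)
      simpa using this
    rw [h0, finrank_top] at h1
    omega

/-- The representation version. -/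
theorem exists_perm_of_rep {V : Type*} [AddCommGroup V] [Module ℂ V] [FiniteDimensional ℂ V]
    {ρ : Representation ℂ G V} (hirr : ρ.IsIrreducible) (hreal : ∀ g, conj (ρ.character g) = ρ.character g)
    (hdim : 2 ≤ finrank ℂ V)
    (hS1 : ∑ g, (ρ.character g ^ 2 + ρ.character (g * g)) ≠ 0)
    (hSχ : ∑ g, (ρ.character g ^ 2 + ρ.character (g * g)) * ρ.character g ≠ 0)
    (hΛ : ∑ g, (ρ.character g ^ 2 - ρ.character (g * g)) * ρ.character g ^ 2 = 2 * Nat.card G)
    (hΛχ : ∑ g, (ρ.character g ^ 2 - ρ.character (g * g)) * ρ.character g = 0) (n : ℕ)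
    (hn : finrank ℂ V + 1 = n) :
    ∃ φ : G →* Equiv.Perm (Fin n), ∀ g, (Nat.card {i // φ g i = i} : ℂ) = 1 + ρ.character g := by
  have hG : (2 * Nat.card G : ℂ) ≠ 0 := by
    exact mul_ne_zero two_ne_zero Characters.Core.card_ne_zero_complex
  have hinv : ∀ g, ρ.character g⁻¹ = ρ.character g := by
    intro g
    have h1 : IsCharacter G ρ.character := Characters.Core.isCharacter_of_rep ρ
    rw [Characters.Core.isCharacter_apply_inv h1, hreal]
  -- the form
  obtain ⟨fB, hfB⟩ : ∃ f : IntertwiningMap (rep2 ρ) (repSign (Representation.trivial ℂ G ℂ) 0), f ≠ 0 := by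
    by_contra h
    push Not at h
    apply hS1
    have h1 := finrank_eq ρ (Representation.trivial ℂ G ℂ) 0
    have h2 : finrank ℂ (IntertwiningMap (rep2 ρ) (repSign (Representation.trivial ℂ G ℂ) 0)) = 0 := by
      have : Subsingleton (IntertwiningMap (rep2 ρ) (repSign (Representation.trivial ℂ G ℂ) 0)) :=
        ⟨fun a b => by rw [h a, h b]⟩
      exact finrank_zero_of_subsingleton
    rw [h2, Nat.cast_zero, zero_mul] at h1
    rw [h1]
    refine Finset.sum_congr rfl fun g _ => ?_
    have h3 : (Representation.trivial ℂ G ℂ).character g = 1 := by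
      show LinearMap.trace ℂ ℂ 1 = 1
      rw [LinearMap.trace_one]; simp
    rw [h3, one_mul, map_add, map_pow, hreal, pow_zero, one_mul, hreal]
  -- the product
  obtain ⟨fμ, hfμ⟩ : ∃ f : IntertwiningMap (rep2 ρ) (repSign ρ 0), f ≠ 0 := by
    by_contra h
    push Not at h
    apply hSχ
    have h1 := finrank_eq ρ ρ 0
    have h2 : finrank ℂ (IntertwiningMap (rep2 ρ) (repSign ρ 0)) = 0 := by
      have : Subsingleton (IntertwiningMap (rep2 ρ) (repSign ρ 0)) :=
        ⟨fun a b => by rw [h a, h b]⟩
      exact finrank_zero_of_subsingleton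
    rw [h2, Nat.cast_zero, zero_mul] at h1
    rw [h1]
    refine Finset.sum_congr rfl fun g _ => ?_
    rw [map_add, map_pow, hreal, pow_zero, one_mul, hreal]
    ring
  obtain ⟨B, hBdef⟩ : ∃ B : V →ₗ[ℂ] V →ₗ[ℂ] ℂ, B = TensorProduct.curry fB.toLinearMap := ⟨_, rfl⟩
  obtain ⟨μ, hμdef⟩ : ∃ μ : V →ₗ[ℂ] V →ₗ[ℂ] V, μ = TensorProduct.curry fμ.toLinearMap := ⟨_, rfl⟩
  have hBg : ∀ g v w, B (ρ g v) (ρ g w) = B v w := by
    intro g v w
    rw [hBdef, curry_rep]
    rfl
  have hμg : ∀ g v w, μ (ρ g v) (ρ g w) = ρ g (μ v w) := by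
    intro g v w
    rw [hμdef, curry_rep]
  have hBs : ∀ v w, B v w = B w v := by
    intro v w
    rw [hBdef, curry_swap, pow_zero, one_smul]
  have hμs : ∀ v w, μ v w = μ w v := by
    intro v w
    rw [hμdef, curry_swap, pow_zero, one_smul]
  obtain ⟨v0, w0, hB0⟩ : ∃ v w, B v w ≠ 0 := by
    rw [hBdef]; exact curry_ne_zero hfB
  have hμ0 : ∃ v w, μ v w ≠ 0 := by
    rw [hμdef]; exact curry_ne_zero hfμ
  have hρinv : ∀ g v, ρ g (ρ g⁻¹ v) = v := by
    intro g v
    rw [← Module.End.mul_apply, ← map_mul, mul_inv_cancel, map_one, Module.End.one_apply]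
  -- associativity of the form
  have hD4 : ∀ v w u, B (μ v w) u = B v (μ w u) := by
    have h1 := finrank_eq ρ ρ.dual 1
    have h2 : ∑ g : G, ρ.dual.character g * conj (ρ.character g ^ 2 + (-1) ^ 1 * ρ.character (g * g)) = 0 := by
      rw [← hΛχ]
      refine Finset.sum_congr rfl fun g _ => ?_
      rw [char_dual, hinv, map_add, map_pow, hreal, map_mul, map_pow, map_neg, map_one, hreal]
      ring
    rw [h2, mul_eq_zero, or_iff_left hG] at h1
    have h3 : finrank ℂ (IntertwiningMap (rep2 ρ) (repSign ρ.dual 1)) = 0 := by exact_mod_cast h1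
    have h4 : Subsingleton (IntertwiningMap (rep2 ρ) (repSign ρ.dual 1)) := finrank_zero_iff.1 h3
    let T : V →ₗ[ℂ] V →ₗ[ℂ] Module.Dual ℂ V :=
      LinearMap.mk₂ ℂ (fun v u =>
        { toFun := fun w => B (μ v w) u - B v (μ w u)
          map_add' := fun w w' => by
            simp only [map_add, LinearMap.add_apply]; ring
          map_smul' := fun c w => by
            simp only [map_smul, LinearMap.smul_apply, RingHom.id_apply, smul_eq_mul]; ring })
        (by
          intro v v' u
          apply LinearMap.ext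
          intro w
          show B (μ (v + v') w) u - B (v + v') (μ w u) = (B (μ v w) u - B v (μ w u)) + (B (μ v' w) u - B v' (μ w u))
          simp only [map_add, LinearMap.add_apply]; ring)
        (by
          intro c v u
          apply LinearMap.ext
          intro w
          show B (μ (c • v) w) u - B (c • v) (μ w u) = c • (B (μ v w) u - B v (μ w u))
          simp only [map_smul, LinearMap.smul_apply, smul_eq_mul]; ring)
        (by
          intro v u u'
          apply LinearMap.ext
          intro w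
          show B (μ v w) (u + u') - B v (μ w (u + u')) = (B (μ v w) u - B v (μ w u)) + (B (μ v w) u' - B v (μ w u'))
          simp only [map_add]; ring)
        (by
          intro c v u
          apply LinearMap.ext
          intro w
          show B (μ v w) (c • u) - B v (μ w (c • u)) = c • (B (μ v w) u - B v (μ w u))
          simp only [map_smul, smul_eq_mul]; ring)
    have hT : ∀ v u w, T v u w = B (μ v w) u - B v (μ w u) := fun _ _ _ => rfl
    have hTs : ∀ v u, T u v = (-1 : ℂ) ^ 1 • T v u := by
      intro v u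
      apply LinearMap.ext
      intro w
      rw [LinearMap.smul_apply, hT, hT, hBs (μ u w) v, hBs u (μ w v), hμs u w, hμs w v, smul_eq_mul]
      ring
    have hTg : ∀ g v u, T (ρ g v) (ρ g u) = ρ.dual g (T v u) := by
      intro g v u
      apply LinearMap.ext
      intro w
      have h5 : (ρ.dual g (T v u)) w = T v u (ρ g⁻¹ w) := rfl
      rw [h5, hT, hT]
      conv_lhs => rw [← hρinv g w]
      rw [hμg, hμg, hBg, hBg]
    have hf : ofBilin T hTs hTg = 0 := Subsingleton.elim _ _
    intro v w u
    have h6 := ofBilin_apply T hTs hTg v u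
    rw [hf] at h6
    have h7 : T v u w = 0 := by
      rw [← h6]; rfl
    rw [hT] at h7
    exact sub_eq_zero.1 h7
  -- the associator
  obtain ⟨k, hD3⟩ : ∃ k : ℂ, ∀ v w u, μ (μ v w) u - μ v (μ w u) = k • (B v w • u - B w u • v) := by
    have h1 := finrank_eq ρ (linHom ρ ρ) 1
    have h2 : ∑ g : G, (linHom ρ ρ).character g * conj (ρ.character g ^ 2 + (-1) ^ 1 * ρ.character (g * g)) =
        2 * Nat.card G := by
      rw [← hΛ]
      refine Finset.sum_congr rfl fun g _ => ?_
      rw [char_linHom, hinv, map_add, map_pow, hreal, map_mul, map_pow, map_neg, map_one, hreal]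
      ring
    rw [h2] at h1
    have h3 : (finrank ℂ (IntertwiningMap (rep2 ρ) (repSign (linHom ρ ρ) 1)) : ℂ) = 1 := by
      exact mul_right_cancel₀ hG (by rw [h1, one_mul])
    have h3' : finrank ℂ (IntertwiningMap (rep2 ρ) (repSign (linHom ρ ρ) 1)) = 1 := by exact_mod_cast h3
    let T1 : V →ₗ[ℂ] V →ₗ[ℂ] (V →ₗ[ℂ] V) :=
      LinearMap.mk₂ ℂ (fun v u =>
        { toFun := fun w => μ (μ v w) u - μ v (μ w u)
          map_add' := fun w w' => by
            simp only [map_add, LinearMap.add_apply]; abel
          map_smul' := fun c w => by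
            simp only [map_smul, LinearMap.smul_apply, RingHom.id_apply, smul_sub] })
        (by
          intro v v' u
          apply LinearMap.ext
          intro w
          show μ (μ (v + v') w) u - μ (v + v') (μ w u) = (μ (μ v w) u - μ v (μ w u)) + (μ (μ v' w) u - μ v' (μ w u))
          simp only [map_add, LinearMap.add_apply]; abel)
        (by
          intro c v u
          apply LinearMap.ext
          intro w
          show μ (μ (c • v) w) u - μ (c • v) (μ w u) = c • (μ (μ v w) u - μ v (μ w u))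
          simp only [map_smul, LinearMap.smul_apply, smul_sub])
        (by
          intro v u u'
          apply LinearMap.ext
          intro w
          show μ (μ v w) (u + u') - μ v (μ w (u + u')) = (μ (μ v w) u - μ v (μ w u)) + (μ (μ v w) u' - μ v (μ w u'))
          simp only [map_add]; abel)
        (by
          intro c v u
          apply LinearMap.ext
          intro w
          show μ (μ v w) (c • u) - μ v (μ w (c • u)) = c • (μ (μ v w) u - μ v (μ w u))
          simp only [map_smul, smul_sub])
    have hT1 : ∀ v u w, T1 v u w = μ (μ v w) u - μ v (μ w u) := fun _ _ _ => rfl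
    let T2 : V →ₗ[ℂ] V →ₗ[ℂ] (V →ₗ[ℂ] V) :=
      LinearMap.mk₂ ℂ (fun v u =>
        { toFun := fun w => B v w • u - B w u • v
          map_add' := fun w w' => by
            simp only [map_add, LinearMap.add_apply]; module
          map_smul' := fun c w => by
            simp only [map_smul, LinearMap.smul_apply, RingHom.id_apply, smul_eq_mul]; module })
        (by
          intro v v' u
          apply LinearMap.ext
          intro w
          show B (v + v') w • u - B w u • (v + v') = (B v w • u - B w u • v) + (B v' w • u - B w u • v')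
          simp only [map_add, LinearMap.add_apply]; module)
        (by
          intro c v u
          apply LinearMap.ext
          intro w
          show B (c • v) w • u - B w u • (c • v) = c • (B v w • u - B w u • v)
          simp only [map_smul, LinearMap.smul_apply, smul_eq_mul]; module)
        (by
          intro v u u'
          apply LinearMap.ext
          intro w
          show B v w • (u + u') - B w (u + u') • v = (B v w • u - B w u • v) + (B v w • u' - B w u' • v)
          simp only [map_add]; module)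
        (by
          intro c v u
          apply LinearMap.ext
          intro w
          show B v w • (c • u) - B w (c • u) • v = c • (B v w • u - B w u • v)
          simp only [map_smul, smul_eq_mul]; module)
    have hT2 : ∀ v u w, T2 v u w = B v w • u - B w u • v := fun _ _ _ => rfl
    have hlin : ∀ g (φ : V →ₗ[ℂ] V) w, (linHom ρ ρ g φ) w = ρ g (φ (ρ g⁻¹ w)) := fun _ _ _ => rfl
    obtain ⟨f1, hf1⟩ : ∃ f : IntertwiningMap (rep2 ρ) (repSign (linHom ρ ρ) 1),
        ∀ v u, f.toLinearMap (v ⊗ₜ u) = T1 v u := by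
      refine ⟨ofBilin T1 ?_ ?_, fun v u => ofBilin_apply _ _ _ _ _⟩
      · intro v u
        apply LinearMap.ext
        intro w
        rw [LinearMap.smul_apply, hT1, hT1, hμs (μ u w) v, hμs u (μ w v), hμs u w, hμs w v]
        module
      · intro g v u
        apply LinearMap.ext
        intro w
        rw [hlin, hT1, hT1]
        conv_lhs => rw [← hρinv g w]
        rw [hμg, hμg, hμg, hμg, map_sub]
    obtain ⟨f2, hf2⟩ : ∃ f : IntertwiningMap (rep2 ρ) (repSign (linHom ρ ρ) 1),
        ∀ v u, f.toLinearMap (v ⊗ₜ u) = T2 v u := by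
      refine ⟨ofBilin T2 ?_ ?_, fun v u => ofBilin_apply _ _ _ _ _⟩
      · intro v u
        apply LinearMap.ext
        intro w
        rw [LinearMap.smul_apply, hT2, hT2, hBs u w, hBs w v]
        module
      · intro g v u
        apply LinearMap.ext
        intro w
        rw [hlin, hT2, hT2]
        conv_lhs => rw [← hρinv g w]
        rw [hBg, hBg, map_sub, map_smul, map_smul]
    have hf20 : f2 ≠ 0 := by
      intro h0
      obtain ⟨u, hu⟩ : ∃ u : V, u ∉ Submodule.span ℂ {v0} := by
        by_contra hall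
        push Not at hall
        have h5 : Submodule.span ℂ {v0} = ⊤ := eq_top_iff.2 fun x _ => hall x
        have h6 : finrank ℂ (Submodule.span ℂ {v0}) ≤ 1 := by
          have := finrank_span_le_card (R := ℂ) ({v0} : Set V)
          simpa using this
        rw [h5, finrank_top] at h6
        omega
      apply hu
      have h7 := hf2 v0 u
      rw [h0] at h7
      have h8 : T2 v0 u w0 = 0 := by
        rw [← h7]; rfl
      rw [hT2, sub_eq_zero] at h8
      rw [Submodule.mem_span_singleton]
      refine ⟨(B v0 w0)⁻¹ * B w0 u, ?_⟩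
      rw [mul_smul, ← h8, smul_smul, inv_mul_cancel₀ hB0, one_smul]
    obtain ⟨k, hk⟩ := (finrank_eq_one_iff_of_nonzero' f2 hf20).1 h3' f1
    refine ⟨k, fun v w u => ?_⟩
    rw [← hT1, ← hT2, ← hf1, ← hf2, ← hk]
    rfl
  let D : TrickAlg.Data V := ⟨B, μ, k, hBs, hμs, hD4, hD3⟩
  have hred : IsReduced (TrickAlg.Carrier D) :=
    TrickReduced.isReduced D ρ hirr (fun v hv => eq_zero_of_fixed hirr hdim v hv) hμ0 hBg hμg
  have hfin : finrank ℂ (TrickAlg.Carrier D) = n := by
    have : finrank ℂ (ℂ × V) = n := by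
      rw [finrank_prod, finrank_self, add_comm, hn]
    exact this
  obtain ⟨π, hπ⟩ := AlgPerm.exists_perm (TrickAlg.act D ρ hBg hμg) n hfin
  exact ⟨π, fun g => by rw [hπ, TrickAlg.trace_act]⟩

/-- **Permutation representation from an irreducible character.**  `χ` is a real irreducible character of degree
`n - 1 ≠ 1`, the trivial character and `χ` occur in the symmetric square of `χ`, the inner product of the
alternating square with `χ ^ 2` is `1` and the alternating square does not contain `χ`.  Then `G` has a permutation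
representation of degree `n` with permutation character `1 + χ`. -/
theorem exists_perm_of_char {χ : G → ℂ} (hχ : IsIrrCharacter G χ) (hreal : ∀ g, conj (χ g) = χ g)
    (hdeg : χ 1 ≠ 1) (hS1 : ∑ g, (χ g ^ 2 + χ (g * g)) ≠ 0) (hSχ : ∑ g, (χ g ^ 2 + χ (g * g)) * χ g ≠ 0)
    (hΛ : ∑ g, (χ g ^ 2 - χ (g * g)) * χ g ^ 2 = 2 * Nat.card G)
    (hΛχ : ∑ g, (χ g ^ 2 - χ (g * g)) * χ g = 0) (n : ℕ) (hn : χ 1 + 1 = n) :
    ∃ φ : G →* Equiv.Perm (Fin n), ∀ g, (Nat.card {i // φ g i = i} : ℂ) = 1 + χ g := by
  obtain ⟨d, hd0, hd⟩ := Characters.Core.isIrr_apply_one hχ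
  obtain ⟨m, ρ, hirr, rfl⟩ := hχ
  have h1 : ρ.character 1 = finrank ℂ (Fin m → ℂ) := Representation.char_one _
  have h2 : finrank ℂ (Fin m → ℂ) = d := by
    have : (finrank ℂ (Fin m → ℂ) : ℂ) = d := by rw [← h1, hd]
    exact_mod_cast this
  have h3 : d ≠ 1 := by
    rintro rfl
    exact hdeg (by rw [hd, Nat.cast_one])
  refine exists_perm_of_rep hirr hreal (by omega) hS1 hSχ hΛ hΛχ n ?_
  have h4 : ((d + 1 : ℕ) : ℂ) = n := by
    rw [← hn, hd]; push_cast; ring
  rw [h2]
  exact_mod_cast h4

end main

end Cfsg.Agent.PermChar.PermFromChar
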