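/-
The symmetric and the alternating square of a character are characters.
-/
import Cfsg.Agent.PermChar.TensorSquare

set_option autoImplicit false

open scoped ComplexConjugate TensorProduct
open Cfsg Representation Module

namespace Cfsg.Agent.PermChar.SymAlt

open Cfsg.Agent.PermChar.TensorSquare

theorem trace_restrict {V : Type*} [AddCommGroup V] [Module ℂ V] [FiniteDimensional ℂ V] (f : Module.End ℂ V)
    (p : Submodule ℂ V) (h : ∀ v, f v ∈ p) :
    LinearMap.trace ℂ p (f.restrict fun v _ => h v) = LinearMap.trace ℂ V f := by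
  have h1 : f = p.subtype ∘ₗ (f.codRestrict p h) := by
    apply LinearMap.ext; intro v; rfl
  have h2 : f.restrict (fun v _ => h v) = (f.codRestrict p h) ∘ₗ p.subtype := by
    apply LinearMap.ext; intro v; rfl
  rw [h2, LinearMap.trace_comp_comm', ← h1]

variable {G : Type*} [Group G] {V : Type*} [AddCommGroup V] [Module ℂ V]

/-- The projection onto the symmetric (`e = 0`) or alternating (`e = 1`) tensors. -/
noncomputable def proj (V : Type*) [AddCommGroup V] [Module ℂ V] (e : ℕ) : Module.End ℂ (V ⊗[ℂ] V) :=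
  (2 : ℂ)⁻¹ • (1 + (-1 : ℂ) ^ e • swap V)

theorem proj_mul_proj (e : ℕ) : proj V e * proj V e = proj V e := by
  have h : ((-1 : ℂ) ^ e) * ((-1 : ℂ) ^ e) = 1 := by
    rw [← mul_pow]; simp
  rw [proj, smul_mul_smul_comm, mul_add, add_mul, add_mul, one_mul, one_mul, mul_one, smul_mul_smul_comm,
    swap_mul_swap, h]
  module

theorem proj_comm (e : ℕ) (f : Module.End ℂ V) :
    proj V e * TensorProduct.map f f = TensorProduct.map f f * proj V e := by
  rw [proj, smul_mul_assoc, mul_smul_comm, add_mul, mul_add, smul_mul_assoc, mul_smul_comm, swap_comm_map,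
    one_mul, mul_one]

theorem isCharacter_sq_rep [FiniteDimensional ℂ V] (ρ : Representation ℂ G V) (e : ℕ) :
    IsCharacter G (fun g => (ρ.character g ^ 2 + (-1) ^ e * ρ.character (g * g)) / 2) := by
  let W : Submodule ℂ (V ⊗[ℂ] V) := LinearMap.range (proj V e)
  have hW : ∀ w ∈ W, proj V e w = w := by
    rintro w ⟨x, rfl⟩
    rw [← Module.End.mul_apply, proj_mul_proj]
  have hg : ∀ (g : G) (w : V ⊗[ℂ] V), w ∈ W → TensorProduct.map (ρ g) (ρ g) w ∈ W := by
    rintro g w ⟨x, rfl⟩
    refine ⟨TensorProduct.map (ρ g) (ρ g) x, ?_⟩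
    rw [← Module.End.mul_apply, proj_comm, Module.End.mul_apply]
  let σ : Representation ℂ G W :=
    { toFun := fun g => (TensorProduct.map (ρ g) (ρ g)).restrict (hg g)
      map_one' := by
        apply LinearMap.ext
        intro w
        apply Subtype.ext
        show TensorProduct.map (ρ 1) (ρ 1) (w : V ⊗[ℂ] V) = w
        rw [map_one]
        exact LinearMap.congr_fun TensorProduct.map_one _
      map_mul' := by
        intro g h
        apply LinearMap.ext
        intro w
        apply Subtype.ext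
        show TensorProduct.map (ρ (g * h)) (ρ (g * h)) (w : V ⊗[ℂ] V) =
          TensorProduct.map (ρ g) (ρ g) (TensorProduct.map (ρ h) (ρ h) (w : V ⊗[ℂ] V))
        rw [map_mul, TensorProduct.map_mul]
        rfl }
  have hσ : σ.character = fun g => (ρ.character g ^ 2 + (-1) ^ e * ρ.character (g * g)) / 2 := by
    funext g
    have hmem : ∀ x, (TensorProduct.map (ρ g) (ρ g) * proj V e) x ∈ W := by
      intro x
      rw [Module.End.mul_apply]
      exact hg g _ ⟨x, rfl⟩
    have h1 : σ g = (TensorProduct.map (ρ g) (ρ g) * proj V e).restrict (fun v _ => hmem v) := by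
      apply LinearMap.ext
      intro w
      apply Subtype.ext
      show TensorProduct.map (ρ g) (ρ g) (w : V ⊗[ℂ] V) =
        TensorProduct.map (ρ g) (ρ g) (proj V e (w : V ⊗[ℂ] V))
      rw [hW _ w.2]
    show LinearMap.trace ℂ W (σ g) = _
    rw [h1, trace_restrict, proj, mul_smul_comm, mul_add, mul_one, mul_smul_comm, map_smul, map_add, map_smul,
      trace_map_swap, LinearMap.trace_tensorProduct', ← map_mul ρ]
    show (2 : ℂ)⁻¹ • (ρ.character g * ρ.character g + (-1 : ℂ) ^ e • ρ.character (g * g)) = _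
    rw [smul_eq_mul, smul_eq_mul]
    ring
  rw [← hσ]
  exact Characters.Core.isCharacter_of_rep σ

theorem isCharacter_symSq {χ : G → ℂ} (hχ : IsCharacter G χ) :
    IsCharacter G (fun g => (χ g ^ 2 + χ (g * g)) / 2) := by
  obtain ⟨n, ρ, rfl⟩ := hχ
  have h := isCharacter_sq_rep ρ 0
  simpa using h

theorem isCharacter_altSq {χ : G → ℂ} (hχ : IsCharacter G χ) :
    IsCharacter G (fun g => (χ g ^ 2 - χ (g * g)) / 2) := by
  obtain ⟨n, ρ, rfl⟩ := hχ
  have h := isCharacter_sq_rep ρ 1
  simpa [sub_eq_add_neg] using h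

end Cfsg.Agent.PermChar.SymAlt
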