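/-
Corollaries of `PermFromChar`, and transitivity criteria in terms of fixed point numbers.
-/
import Cfsg.Agent.PermChar.PermFromChar
import Cfsg.Agent.PermChar.SymAlt
import Cfsg.Agent.S0895

set_option autoImplicit false

open scoped ComplexConjugate
open Cfsg Module

namespace Cfsg.Agent.PermChar.PermCor

section action

variable {G X : Type*} [Group G] [Fintype G] [MulAction G X] [Finite X]

/-- An embedding `Fin k ↪ X` fixed by `g` is an embedding into the fixed points. -/
def fixedEquiv (k : ℕ) (g : G) : MulAction.fixedBy (Fin k ↪ X) g ≃ (Fin k ↪ MulAction.fixedBy X g) where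
  toFun f := ⟨fun i => ⟨f.1 i, DFunLike.congr_fun (show g • f.1 = f.1 from f.2) i⟩, fun i j h => by
    have := congrArg Subtype.val h
    exact f.1.injective this⟩
  invFun f := ⟨⟨fun i => (f i).1, fun i j h => f.injective (Subtype.ext h)⟩, by
    show g • _ = _
    ext i
    exact (f i).2⟩
  left_inv f := rfl
  right_inv f := rfl

/-- The number of orbits on injective `k`-tuples times the group order. -/
theorem card_orbits_embedding (k : ℕ) :
    ∑ g : G, (Nat.card (MulAction.fixedBy X g)).descFactorial k =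
      Nat.card (MulAction.orbitRel.Quotient G (Fin k ↪ X)) * Nat.card G := by
  classical
  have := Fintype.ofFinite X
  have := Fintype.ofFinite (Fin k ↪ X)
  have h := MulAction.sum_card_fixedBy_eq_card_orbits_mul_card_group G (Fin k ↪ X)
  rw [Nat.card_eq_fintype_card, Nat.card_eq_fintype_card, ← h]
  refine Finset.sum_congr rfl fun g _ => ?_
  rw [← Nat.card_eq_fintype_card, Nat.card_congr (fixedEquiv k g), Nat.card_eq_fintype_card,
    Nat.card_eq_fintype_card, Fintype.card_embedding_eq, Fintype.card_fin]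

/-- `k`-transitivity from the numbers of fixed points. -/
theorem isMultiplyPretransitive_of_sum (k : ℕ)
    (h : ∑ g : G, (Nat.card (MulAction.fixedBy X g)).descFactorial k = Nat.card G) :
    MulAction.IsMultiplyPretransitive G X k := by
  rw [card_orbits_embedding] at h
  have h1 : Nat.card (MulAction.orbitRel.Quotient G (Fin k ↪ X)) = 1 := by
    have hpos : 0 < Nat.card G := Nat.card_pos
    exact Nat.eq_of_mul_eq_mul_right hpos (by rw [h, one_mul])
  have h2 : Subsingleton (MulAction.orbitRel.Quotient G (Fin k ↪ X)) :=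
    (Nat.card_eq_one_iff_unique.1 h1).1
  exact MulAction.pretransitive_iff_subsingleton_quotient G (Fin k ↪ X) |>.2 h2

theorem isMultiplyPretransitive_iff_sum (k : ℕ) (hk : k ≤ Nat.card X) :
    MulAction.IsMultiplyPretransitive G X k ↔
      ∑ g : G, (Nat.card (MulAction.fixedBy X g)).descFactorial k = Nat.card G := by
  refine ⟨fun h => ?_, isMultiplyPretransitive_of_sum k⟩
  rw [card_orbits_embedding]
  have h2 : Subsingleton (MulAction.orbitRel.Quotient G (Fin k ↪ X)) :=
    (MulAction.pretransitive_iff_subsingleton_quotient G (Fin k ↪ X)).1 h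
  have := Fintype.ofFinite X
  have h3 : Nonempty (Fin k ↪ X) := by
    apply Function.Embedding.nonempty_of_card_le
    rw [Fintype.card_fin, ← Nat.card_eq_fintype_card]
    exact hk
  have h4 : Nonempty (MulAction.orbitRel.Quotient G (Fin k ↪ X)) := ⟨Quotient.mk'' h3.some⟩
  rw [Nat.card_eq_one_iff_unique.2 ⟨h2, h4⟩, one_mul]

end action

section char

variable {G : Type*} [Group G] [Fintype G]

/-- Distinct irreducible constituents of a character have total degree at most the degree of the character. -/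
theorem sum_degree_le {S : G → ℂ} (hS : IsCharacter G S) (T : Finset (G → ℂ))
    (hT : ∀ ψ ∈ T, IsIrrCharacter G ψ ∧ classInner S ψ ≠ 0) (d : (G → ℂ) → ℕ) (hd : ∀ ψ ∈ T, ψ 1 = d ψ)
    (m : ℕ) (hm : S 1 = m) : ∑ ψ ∈ T, d ψ ≤ m := by
  classical
  have : Finite (IrrCharacter G) := Characters.Core.finite_irr
  have := Fintype.ofFinite (IrrCharacter G)
  choose c hc using fun χ : IrrCharacter G => Characters.Core.classInner_isNat hS (Characters.Core.isIrr_isCharacter χ.2)
  choose e he0 he using fun χ : IrrCharacter G => Characters.Core.isIrr_apply_one χ.2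
  have h1 : m = ∑ χ : IrrCharacter G, c χ * e χ := by
    have h := congrFun (Characters.Core.classFunction_eq_sum (Characters.Core.isCharacter_isClassFunction hS)) 1
    rw [Finset.sum_apply, hm] at h
    have h2 : (m : ℂ) = ((∑ χ : IrrCharacter G, c χ * e χ : ℕ) : ℂ) := by
      rw [h]
      push_cast
      refine Finset.sum_congr rfl fun χ _ => ?_
      rw [Pi.smul_apply, smul_eq_mul, hc, he]
    exact_mod_cast h2
  rw [h1]
  calc ∑ ψ ∈ T, d ψ = ∑ χ ∈ T.subtype (IsIrrCharacter G), e χ := by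
        have h3 : ∑ χ ∈ T.subtype (IsIrrCharacter G), e χ = ∑ χ ∈ T.subtype (IsIrrCharacter G), d χ.1 := by
          refine Finset.sum_congr rfl fun χ hχ => ?_
          have h4 : (e χ : ℂ) = d χ.1 := by rw [← he, hd χ.1 (Finset.mem_subtype.1 hχ)]
          exact_mod_cast h4
        rw [h3, Finset.sum_subtype_of_mem (f := d) (p := IsIrrCharacter G) (fun ψ hψ => (hT ψ hψ).1)]
    _ ≤ ∑ χ ∈ T.subtype (IsIrrCharacter G), c χ * e χ := by
        refine Finset.sum_le_sum fun χ hχ => ?_
        have h5 : c χ ≠ 0 := by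
          intro h0
          apply (hT χ.1 (Finset.mem_subtype.1 hχ)).2
          rw [hc, h0, Nat.cast_zero]
        exact Nat.le_mul_of_pos_left _ (Nat.pos_of_ne_zero h5)
    _ ≤ ∑ χ : IrrCharacter G, c χ * e χ :=
        Finset.sum_le_sum_of_subset (Finset.subset_univ _)

theorem sum_eq_of_classInner {f ψ : G → ℂ} (hψ : ∀ g, conj (ψ g) = ψ g) :
    ∑ g, f g * ψ g = Nat.card G * classInner f ψ := by
  rw [classInner, ← mul_assoc, mul_inv_cancel₀ Characters.Core.card_ne_zero_complex, one_mul]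
  exact Finset.sum_congr rfl fun g _ => by rw [hψ]

/-- The version with the symmetric square `S` and the alternating square `Λ` as functions. -/
theorem exists_perm_of_squares {χ S Λ : G → ℂ} (hχ : IsIrrCharacter G χ) (hreal : ∀ g, conj (χ g) = χ g)
    (hdeg : χ 1 ≠ 1) (hS : ∀ g, S g = (χ g ^ 2 + χ (g * g)) / 2) (hΛ : ∀ g, Λ g = (χ g ^ 2 - χ (g * g)) / 2)
    (hS1 : classInner S 1 ≠ 0) (hSχ : classInner S χ ≠ 0) (hΛΛ : classInner Λ Λ = 1)
    (hΛS : classInner Λ S = 0) (hΛχ : classInner Λ χ = 0) (n : ℕ) (hn : χ 1 + 1 = n) :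
    ∃ φ : G →* Equiv.Perm (Fin n), ∀ g, (Nat.card {i // φ g i = i} : ℂ) = 1 + χ g := by
  have hG : (Nat.card G : ℂ) ≠ 0 := Characters.Core.card_ne_zero_complex
  have hS' : ∀ g, χ g ^ 2 + χ (g * g) = 2 * S g := fun g => by rw [hS]; ring
  have hΛ' : ∀ g, χ g ^ 2 - χ (g * g) = 2 * Λ g := fun g => by rw [hΛ]; ring
  have hSr : ∀ g, conj (S g) = S g := fun g => by
    rw [hS, map_div₀, map_add, map_pow, hreal, hreal, Complex.conj_ofNat]
  have hΛr : ∀ g, conj (Λ g) = Λ g := fun g => by
    rw [hΛ, map_div₀, map_sub, map_pow, hreal, hreal, Complex.conj_ofNat]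
  refine PermFromChar.exists_perm_of_char hχ hreal hdeg ?_ ?_ ?_ ?_ n hn
  · have h1 := sum_eq_of_classInner (f := S) (ψ := (1 : G → ℂ)) (fun g => map_one _)
    have h2 : ∑ g, (χ g ^ 2 + χ (g * g)) = 2 * (Nat.card G * classInner S 1) := by
      rw [← h1, Finset.mul_sum]
      exact Finset.sum_congr rfl fun g _ => by rw [hS', Pi.one_apply, mul_one]
    rw [h2]
    exact mul_ne_zero two_ne_zero (mul_ne_zero hG hS1)
  · have h1 := sum_eq_of_classInner (f := S) (ψ := χ) hreal
    have h2 : ∑ g, (χ g ^ 2 + χ (g * g)) * χ g = 2 * (Nat.card G * classInner S χ) := by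
      rw [← h1, Finset.mul_sum]
      exact Finset.sum_congr rfl fun g _ => by rw [hS', mul_assoc]
    rw [h2]
    exact mul_ne_zero two_ne_zero (mul_ne_zero hG hSχ)
  · have h1 := sum_eq_of_classInner (f := Λ) (ψ := Λ) hΛr
    have h2 := sum_eq_of_classInner (f := Λ) (ψ := S) hSr
    rw [hΛΛ, mul_one] at h1
    rw [hΛS, mul_zero] at h2
    have h3 : ∑ g, (χ g ^ 2 - χ (g * g)) * χ g ^ 2 = 2 * (∑ g, Λ g * Λ g + ∑ g, Λ g * S g) := by
      rw [← Finset.sum_add_distrib, Finset.mul_sum]
      refine Finset.sum_congr rfl fun g _ => ?_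
      rw [hΛ', ← mul_add, hS, hΛ]; ring
    rw [h3, h1, h2, add_zero]
  · have h1 := sum_eq_of_classInner (f := Λ) (ψ := χ) hreal
    rw [hΛχ, mul_zero] at h1
    have h2 : ∑ g, (χ g ^ 2 - χ (g * g)) * χ g = 2 * ∑ g, Λ g * χ g := by
      rw [Finset.mul_sum]
      exact Finset.sum_congr rfl fun g _ => by rw [hΛ', mul_assoc]
    rw [h2, h1, mul_zero]

/-- The version with the fewest hypotheses: `χ` real with Frobenius-Schur indicator `1`, degree at least `4`, `χ`
occurs in its symmetric square and its alternating square is irreducible. -/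
theorem exists_perm_of_alt_irr {χ : G → ℂ} (hχ : IsIrrCharacter G χ) (hreal : ∀ g, conj (χ g) = χ g)
    (hFS : ∑ g, χ (g * g) = Nat.card G) (hSχ : ∑ g, (χ g ^ 2 + χ (g * g)) * χ g ≠ 0)
    (hΛ : IsIrrCharacter G (fun g => (χ g ^ 2 - χ (g * g)) / 2)) (n : ℕ) (hn : χ 1 + 1 = n) (h5 : 5 ≤ n) :
    ∃ φ : G →* Equiv.Perm (Fin n), ∀ g, (Nat.card {i // φ g i = i} : ℂ) = 1 + χ g := by
  have hG : (Nat.card G : ℂ) ≠ 0 := Characters.Core.card_ne_zero_complex
  obtain ⟨S, hS⟩ : ∃ S : G → ℂ, S = fun g => (χ g ^ 2 + χ (g * g)) / 2 := ⟨_, rfl⟩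
  obtain ⟨Λ, hΛdef⟩ : ∃ Λ : G → ℂ, Λ = fun g => (χ g ^ 2 - χ (g * g)) / 2 := ⟨_, rfl⟩
  rw [← hΛdef] at hΛ
  have hSc : IsCharacter G S := by
    rw [hS]; exact SymAlt.isCharacter_symSq (Characters.Core.isIrr_isCharacter hχ)
  have hS' : ∀ g, S g = (χ g ^ 2 + χ (g * g)) / 2 := fun g => by rw [hS]
  have hΛ' : ∀ g, Λ g = (χ g ^ 2 - χ (g * g)) / 2 := fun g => by rw [hΛdef]
  obtain ⟨d, rfl⟩ : ∃ d : ℕ, n = d + 1 := ⟨n - 1, by omega⟩
  have hd : χ 1 = d := by
    have : χ 1 + 1 = d + 1 := by rw [hn]; push_cast; rfl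
    exact add_right_cancel this
  obtain ⟨a, ha⟩ : ∃ a : ℕ, d * (d - 1) = 2 * a := by
    have := Nat.even_mul_pred_self d
    obtain ⟨a, ha⟩ := this
    exact ⟨a, by omega⟩
  have ha' : d * d = 2 * a + d := by
    rw [← ha]
    obtain ⟨k, rfl⟩ : ∃ k, d = k + 1 := ⟨d - 1, by omega⟩
    simp only [Nat.add_sub_cancel]
    ring
  have hac : (d : ℂ) ^ 2 = 2 * a + d := by
    rw [sq]; exact_mod_cast ha'
  have hΛ1 : Λ 1 = a := by
    rw [hΛ', mul_one, hd, hac]; ring
  have hS1 : S 1 = (a + d : ℕ) := by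
    rw [hS', mul_one, hd, hac]; push_cast; ring
  have h4 : 4 ≤ d := by omega
  have had : d < a := by nlinarith
  have hone : ∀ g, conj ((1 : G → ℂ) g) = (1 : G → ℂ) g := fun g => map_one _
  have hΛχ : Λ ≠ χ := by
    intro h
    rw [h, hd] at hΛ1
    have : d = a := by exact_mod_cast hΛ1
    omega
  have hΛone : Λ ≠ 1 := by
    intro h
    rw [h, Pi.one_apply] at hΛ1
    have : 1 = a := by exact_mod_cast hΛ1
    omega
  have hχone : χ ≠ 1 := by
    intro h
    rw [h, Pi.one_apply] at hd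
    have : 1 = d := by exact_mod_cast hd
    omega
  have hχχ : ∑ g, χ g * χ g = Nat.card G := by
    rw [sum_eq_of_classInner hreal, Characters.Core.classInner_irr_self hχ, mul_one]
  have hS1' : classInner S 1 ≠ 0 := by
    intro h
    have h1 := sum_eq_of_classInner (f := S) hone
    rw [h, mul_zero] at h1
    have h2 : ∑ g, S g * (1 : G → ℂ) g = Nat.card G := by
      have : ∑ g, S g * (1 : G → ℂ) g = (∑ g, χ g * χ g + ∑ g, χ (g * g)) / 2 := by
        rw [← Finset.sum_add_distrib, Finset.sum_div]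
        refine Finset.sum_congr rfl fun g _ => ?_
        rw [hS', Pi.one_apply, mul_one, sq]
      rw [this, hχχ, hFS]; ring
    exact hG (by rw [← h2, h1])
  have hSχ' : classInner S χ ≠ 0 := by
    intro h
    have h1 := sum_eq_of_classInner (f := S) hreal
    rw [h, mul_zero] at h1
    apply hSχ
    have : ∑ g, (χ g ^ 2 + χ (g * g)) * χ g = 2 * ∑ g, S g * χ g := by
      rw [Finset.mul_sum]
      refine Finset.sum_congr rfl fun g _ => ?_
      rw [hS']; ring
    rw [this, h1, mul_zero]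
  have hSΛ : classInner S Λ = 0 := by
    classical
    by_contra h
    have h1 := sum_degree_le hSc {1, χ, Λ} (by
      intro ψ hψ
      simp only [Finset.mem_insert, Finset.mem_singleton] at hψ
      rcases hψ with rfl | rfl | rfl
      · exact ⟨Characters.Core.isIrr_one, hS1'⟩
      · exact ⟨hχ, hSχ'⟩
      · exact ⟨hΛ, h⟩) (fun ψ => if ψ = 1 then 1 else if ψ = χ then d else a) (by
      intro ψ hψ
      simp only [Finset.mem_insert, Finset.mem_singleton] at hψ
      rcases hψ with rfl | rfl | rfl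
      · rw [if_pos rfl, Nat.cast_one, Pi.one_apply]
      · rw [if_neg hχone, if_pos rfl, hd]
      · rw [if_neg hΛone, if_neg hΛχ, hΛ1]) (a + d) hS1
    rw [Finset.sum_insert (by simp [hχone.symm, hΛone.symm]), Finset.sum_insert (by simp [hΛχ.symm]),
      Finset.sum_singleton, if_pos rfl, if_neg hχone, if_pos rfl, if_neg hΛone, if_neg hΛχ] at h1
    omega
  refine exists_perm_of_squares hχ hreal ?_ hS' hΛ' hS1' hSχ' (Characters.Core.classInner_irr_self hΛ) ?_
    (Characters.Core.classInner_irr_ne hΛ hχ hΛχ) (d + 1) hn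
  · rw [hd]
    intro h
    have : d = 1 := by exact_mod_cast h
    omega
  · have h6 := Characters.Core.classInner_conj_symm S Λ
    rw [hSΛ, map_zero] at h6
    exact h6.symm

/-- The version for `χ` of odd degree: the Frobenius-Schur indicator is `1` automatically. -/
theorem exists_perm_of_alt_irr_odd {χ : G → ℂ} (hχ : IsIrrCharacter G χ) (hreal : ∀ g, conj (χ g) = χ g)
    (hSχ : ∑ g, (χ g ^ 2 + χ (g * g)) * χ g ≠ 0)
    (hΛ : IsIrrCharacter G (fun g => (χ g ^ 2 - χ (g * g)) / 2)) (n : ℕ) (hn : χ 1 + 1 = n) (h5 : 5 ≤ n)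
    (heven : Even n) :
    ∃ φ : G →* Equiv.Perm (Fin n), ∀ g, (Nat.card {i // φ g i = i} : ℂ) = 1 + χ g := by
  refine exists_perm_of_alt_irr hχ hreal ?_ hSχ hΛ n hn h5
  obtain ⟨d, rfl⟩ : ∃ d : ℕ, n = d + 1 := ⟨n - 1, by omega⟩
  have hd : χ 1 = d := by
    have : χ 1 + 1 = d + 1 := by rw [hn]; push_cast; rfl
    exact add_right_cancel this
  have hodd : Odd d := by
    by_contra h
    rw [Nat.not_odd_iff_even] at h
    exact (Nat.not_even_iff_odd.2 h.add_one) heven
  have h := S0895.result χ hχ (fun g => Complex.conj_eq_iff_im.1 (hreal g)) d hd hodd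
  have hG : (Nat.card G : ℂ) ≠ 0 := Characters.Core.card_ne_zero_complex
  rw [inv_mul_eq_iff_eq_mul₀ hG, mul_one] at h
  exact h

end char

end Cfsg.Agent.PermChar.PermCor
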