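/-
Multiple transitivity of a permutation representation with character `1 + χ` in terms of `χ ^ 2`.
-/
import Cfsg.Agent.PermChar.PermCor

set_option autoImplicit false

open scoped ComplexConjugate
open Cfsg Module

namespace Cfsg.Agent.PermChar.PermTrans

variable {G : Type*} [Group G] [Fintype G]

section action

variable {X : Type*} [MulAction G X] [Finite X] {χ : G → ℂ}

theorem cast_descFactorial_two (n : ℕ) : ((n.descFactorial 2 : ℕ) : ℂ) = n * (n - 1) := by
  rcases n with _ | n
  · simp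
  · rw [Nat.succ_descFactorial_succ, Nat.descFactorial_one]; push_cast; ring

theorem cast_descFactorial_three (n : ℕ) : ((n.descFactorial 3 : ℕ) : ℂ) = n * (n - 1) * (n - 2) := by
  rcases n with _ | n
  · simp
  · rw [Nat.succ_descFactorial_succ, Nat.cast_mul, cast_descFactorial_two]; push_cast; ring

theorem cast_descFactorial_four (n : ℕ) :
    ((n.descFactorial 4 : ℕ) : ℂ) = n * (n - 1) * (n - 2) * (n - 3) := by
  rcases n with _ | n
  · simp
  · rw [Nat.succ_descFactorial_succ, Nat.cast_mul, cast_descFactorial_three]; push_cast; ring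

/-- Transitive iff `χ` is orthogonal to `1`. -/
theorem isPretransitive (hfix : ∀ g : G, (Nat.card (MulAction.fixedBy X g) : ℂ) = 1 + χ g)
    (h1 : ∑ g, χ g = 0) : MulAction.IsMultiplyPretransitive G X 1 := by
  apply PermCor.isMultiplyPretransitive_of_sum
  have h : ((∑ g : G, (Nat.card (MulAction.fixedBy X g)).descFactorial 1 : ℕ) : ℂ) = (Nat.card G : ℂ) := by
    rw [Nat.cast_sum]
    have : ∀ g : G, (((Nat.card (MulAction.fixedBy X g)).descFactorial 1 : ℕ) : ℂ) = 1 + χ g := by
      intro g; rw [Nat.descFactorial_one, hfix]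
    rw [Finset.sum_congr rfl fun g _ => this g, Finset.sum_add_distrib, h1, add_zero, Finset.sum_const,
      Finset.card_univ, nsmul_eq_mul, mul_one, Nat.card_eq_fintype_card]
  exact_mod_cast h

/-- `2`-transitive when moreover `χ` has norm `1`. -/
theorem two (hfix : ∀ g : G, (Nat.card (MulAction.fixedBy X g) : ℂ) = 1 + χ g)
    (h1 : ∑ g, χ g = 0) (h2 : ∑ g, χ g * χ g = Nat.card G) : MulAction.IsMultiplyPretransitive G X 2 := by
  apply PermCor.isMultiplyPretransitive_of_sum
  have h : ((∑ g : G, (Nat.card (MulAction.fixedBy X g)).descFactorial 2 : ℕ) : ℂ) = (Nat.card G : ℂ) := by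
    rw [Nat.cast_sum]
    have : ∀ g : G, (((Nat.card (MulAction.fixedBy X g)).descFactorial 2 : ℕ) : ℂ) = χ g * χ g + χ g := by
      intro g; rw [cast_descFactorial_two, hfix]; ring
    rw [Finset.sum_congr rfl fun g _ => this g, Finset.sum_add_distrib, h1, add_zero, h2]
  exact_mod_cast h

/-- `3`-transitive when `χ` has multiplicity `1` in `χ ^ 2`. -/
theorem three (hfix : ∀ g : G, (Nat.card (MulAction.fixedBy X g) : ℂ) = 1 + χ g)
    (h1 : ∑ g, χ g = 0) (h3 : ∑ g, χ g ^ 2 * χ g = Nat.card G) : MulAction.IsMultiplyPretransitive G X 3 := by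
  apply PermCor.isMultiplyPretransitive_of_sum
  have h : ((∑ g : G, (Nat.card (MulAction.fixedBy X g)).descFactorial 3 : ℕ) : ℂ) = (Nat.card G : ℂ) := by
    rw [Nat.cast_sum]
    have : ∀ g : G, (((Nat.card (MulAction.fixedBy X g)).descFactorial 3 : ℕ) : ℂ) = χ g ^ 2 * χ g - χ g := by
      intro g; rw [cast_descFactorial_three, hfix]; ring
    rw [Finset.sum_congr rfl fun g _ => this g, Finset.sum_sub_distrib, h1, sub_zero, h3]
  exact_mod_cast h

/-- `4`-transitive when moreover `χ ^ 2` has norm `4`. -/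
theorem four (hfix : ∀ g : G, (Nat.card (MulAction.fixedBy X g) : ℂ) = 1 + χ g)
    (h1 : ∑ g, χ g = 0) (h2 : ∑ g, χ g * χ g = Nat.card G) (h3 : ∑ g, χ g ^ 2 * χ g = Nat.card G)
    (h4 : ∑ g, χ g ^ 2 * χ g ^ 2 = 4 * Nat.card G) : MulAction.IsMultiplyPretransitive G X 4 := by
  apply PermCor.isMultiplyPretransitive_of_sum
  have h : ((∑ g : G, (Nat.card (MulAction.fixedBy X g)).descFactorial 4 : ℕ) : ℂ) = (Nat.card G : ℂ) := by
    rw [Nat.cast_sum]
    have : ∀ g : G, (((Nat.card (MulAction.fixedBy X g)).descFactorial 4 : ℕ) : ℂ) =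
        χ g ^ 2 * χ g ^ 2 - 2 * (χ g ^ 2 * χ g) - χ g * χ g + 2 * χ g := by
      intro g; rw [cast_descFactorial_four, hfix]; ring
    rw [Finset.sum_congr rfl fun g _ => this g, Finset.sum_add_distrib, Finset.sum_sub_distrib,
      Finset.sum_sub_distrib, ← Finset.mul_sum, ← Finset.mul_sum, h1, h2, h3, h4]
    ring
  exact_mod_cast h

end action

/- The action of `G` on `Fin n` through a homomorphism: the fixed points. -/
omit [Fintype G] in
theorem card_fixedBy_compHom {n : ℕ} (φ : G →* Equiv.Perm (Fin n)) (g : G) :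
    letI := MulAction.compHom (Fin n) φ
    Nat.card (MulAction.fixedBy (Fin n) g) = Nat.card {i // φ g i = i} := rfl

/-- **The package for Mathieu groups.**  `χ` real irreducible of degree `n - 1 ≥ 4`, Frobenius-Schur indicator `1`,
`Λ² χ` irreducible and `χ` of multiplicity `1` in `S² χ`: then `G` acts `3`-transitively on `n` points, and
`4`-transitively if moreover `χ ^ 2` has norm `4`. -/
theorem exists_multiply_transitive {χ : G → ℂ} (hχ : IsIrrCharacter G χ) (hreal : ∀ g, conj (χ g) = χ g)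
    (hFS : ∑ g, χ (g * g) = Nat.card G)
    (hΛ : IsIrrCharacter G (fun g => (χ g ^ 2 - χ (g * g)) / 2)) (n : ℕ) (hn : χ 1 + 1 = n) (h5 : 5 ≤ n)
    (hm : ∑ g, χ g ^ 2 * χ g = Nat.card G) :
    ∃ φ : G →* Equiv.Perm (Fin n), (∀ g, (Nat.card {i // φ g i = i} : ℂ) = 1 + χ g) ∧
      (letI := MulAction.compHom (Fin n) φ; MulAction.IsMultiplyPretransitive G (Fin n) 3) ∧
      (∑ g, χ g ^ 2 * χ g ^ 2 = 4 * Nat.card G →
        letI := MulAction.compHom (Fin n) φ; MulAction.IsMultiplyPretransitive G (Fin n) 4) := by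
  have hG : (Nat.card G : ℂ) ≠ 0 := Characters.Core.card_ne_zero_complex
  obtain ⟨d, rfl⟩ : ∃ d : ℕ, n = d + 1 := ⟨n - 1, by omega⟩
  have hd : χ 1 = d := by
    have : χ 1 + 1 = d + 1 := by rw [hn]; push_cast; rfl
    exact add_right_cancel this
  have hχone : χ ≠ 1 := by
    intro h
    rw [h, Pi.one_apply] at hd
    have : 1 = d := by exact_mod_cast hd
    omega
  have h1 : ∑ g, χ g = 0 := by
    have h := PermCor.sum_eq_of_classInner (f := χ) (ψ := (1 : G → ℂ)) (fun g => map_one _)
    rw [Characters.Core.classInner_irr_ne hχ Characters.Core.isIrr_one hχone, mul_zero] at h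
    simpa using h
  have h2 : ∑ g, χ g * χ g = Nat.card G := by
    rw [PermCor.sum_eq_of_classInner hreal, Characters.Core.classInner_irr_self hχ, mul_one]
  have hΛχ : ∑ g, ((χ g ^ 2 - χ (g * g)) / 2) * χ g = 0 := by
    have hne : (fun g => (χ g ^ 2 - χ (g * g)) / 2) ≠ χ := by
      intro h
      have h1' := congrFun h 1
      simp only [mul_one] at h1'
      rw [hd] at h1'
      have h6 : (d : ℂ) ^ 2 = 3 * d := by linear_combination 2 * h1'
      have h7 : d ^ 2 = 3 * d := by exact_mod_cast h6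
      have h8 : 4 ≤ d := by omega
      nlinarith
    rw [PermCor.sum_eq_of_classInner hreal, Characters.Core.classInner_irr_ne hΛ hχ hne, mul_zero]
  have hSχ : ∑ g, (χ g ^ 2 + χ (g * g)) * χ g ≠ 0 := by
    have h3 : ∑ g, (χ g ^ 2 + χ (g * g)) * χ g =
        2 * ∑ g, χ g ^ 2 * χ g - 2 * ∑ g, ((χ g ^ 2 - χ (g * g)) / 2) * χ g := by
      rw [Finset.mul_sum, Finset.mul_sum, ← Finset.sum_sub_distrib]
      refine Finset.sum_congr rfl fun g _ => ?_
      ring
    rw [h3, hΛχ, hm, mul_zero, sub_zero]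
    exact mul_ne_zero two_ne_zero hG
  obtain ⟨φ, hφ⟩ := PermCor.exists_perm_of_alt_irr hχ hreal hFS hSχ hΛ (d + 1) hn h5
  exact ⟨φ, hφ, by letI := MulAction.compHom (Fin (d + 1)) φ; exact three (X := Fin (d + 1)) hφ h1 hm,
    fun h4 => by letI := MulAction.compHom (Fin (d + 1)) φ; exact four (X := Fin (d + 1)) hφ h1 h2 hm h4⟩

end Cfsg.Agent.PermChar.PermTrans
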